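import Groth.Agent.Ega2Proj.QAffFactor

/-!
# Immersions into relative spectra come from subalgebras of finite type
-/

set_option autoImplicit false
set_option backward.isDefEq.respectTransparency.types false

universe u

open CategoryTheory CategoryTheory.Limits AlgebraicGeometry Opposite TopologicalSpace

noncomputable section

namespace Groth.SubAlgImm

open Groth.QCohMod Groth.Ega2P2

variable {X Y : Scheme.{u}}

/-- finitely many sections of a quasi-coherent algebra lie in a subalgebra of finite type -/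
theorem exists_ft_subalgebra (B : RelSpec.QCAlg Y) [CompactSpace Y] [QuasiSeparatedSpace Y] {ι : Type*} [Finite ι]
    (U : ι → Y.Opens) (hU : ∀ i, IsAffineOpen (U i)) (T : ∀ i, Set (B.presheaf.obj (op (U i))))
    (hT : ∀ i, (T i).Finite) :
    ∃ (A : RelSpec.QCAlg Y) (φ : A ⟶ B),
      (∀ W : Y.Opens, Function.Injective (φ.hom.app (op W))) ∧
      (∀ W : Y.Opens, IsAffineOpen W → (A.str.app (op W)).hom.FiniteType) ∧
      ∀ i, T i ⊆ Set.range (φ.hom.app (op (U i))).hom := by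
  classical
  have := isQCoh_toModule B
  obtain ⟨t, ht⟩ := isCompact_univ.elim_finite_subcover (fun V : Y.affineOpens => (V.1 : Set Y))
    (fun V => V.1.2) (by
      intro x _
      obtain ⟨_, ⟨V, hV, rfl⟩, hx, -⟩ :=
        Y.isBasis_affineOpens.exists_subset_of_mem_open (Set.mem_univ x) isOpen_univ
      exact Set.mem_iUnion.2 ⟨⟨V, hV⟩, hx⟩)
  let e := t.equivFin
  let V : Fin t.card → Y.Opens := fun l => (e.symm l).1.1
  have hV : ∀ l, IsAffineOpen (V l) := fun l => (e.symm l).1.2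
  have hcov : ⨆ l, V l = ⊤ := eq_top_iff.2 fun x _ => by
    obtain ⟨W, hW, hxW⟩ := Set.mem_iUnion₂.1 (ht (Set.mem_univ x))
    exact TopologicalSpace.Opens.mem_iSup.2 ⟨e ⟨W, hW⟩, by simpa [V] using hxW⟩
  have hVV : ∀ (W : Y.Opens), IsCompact (W : Set Y) → ∀ l, IsCompact ((V l : Set Y) ∩ W) :=
    fun W hW l => QuasiSeparatedSpace.inter_isCompact _ _ (V l).2 (hV l).isCompact W.2 hW
  have hW : ∀ l, IsCompact ((V l : Set Y) ∩ ⋃ m ∈ Set.Iio l, (V m : Set Y)) := fun l => by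
    rw [Set.inter_iUnion₂]
    exact (Set.toFinite _).isCompact_biUnion fun m _ => hVV (V m) (hV m).isCompact l
  choose E j hj hE hTE using fun i => exists_finiteType_containing B V hV hcov hW
    (hU i) (hVV _ (hU i).isCompact) (T i) (hT i)
  obtain ⟨E₀, j₀, hj₀, hE₀, -⟩ := exists_finiteType_containing B V hV hcov hW
    (isAffineOpen_bot Y) (hVV _ (isAffineOpen_bot Y).isCompact) ∅ Set.finite_empty
  have := Fintype.ofFinite ι
  obtain ⟨G, k, hk, hG, ha⟩ := exists_finiteType_containing_family Finset.univ E j hE E₀ j₀ hE₀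
  have := hG.1
  refine ⟨locGenAlg B k, locGenHom B k, fun W a b h => Subtype.ext h,
    fun W hW => finiteType_locGen B k hG.2 ⟨W, hW⟩, fun i s hs => ?_⟩
  obtain ⟨e', he'⟩ := hTE i s hs
  obtain ⟨a, hal⟩ := ha i (Finset.mem_univ i)
  refine ⟨⟨s, gen_le_locGen B k _ ?_⟩, rfl⟩
  rw [← he', ← hal]
  exact app_mem_gen B k (a.app _ e')

variable {A B : RelSpec.QCAlg Y}

/-- the map of relative spectra on the sections over an affine open of the base -/
theorem specMap_appLE (φ : A ⟶ B) (U : Y.Opens) (hU : IsAffineOpen U)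
    (e : B.π ⁻¹ᵁ U ≤ RelSpec.QCAlg.specMap φ ⁻¹ᵁ (A.π ⁻¹ᵁ U)) :
    (RelSpec.QCAlg.specMap φ).appLE (A.π ⁻¹ᵁ U) (B.π ⁻¹ᵁ U) e ≫ B.gammaAff U hU =
      A.gammaAff U hU ≫ φ.hom.app (op U) := by
  simp only [RelSpec.QCAlg.gammaAff, Category.assoc]
  rw [Scheme.Hom.appLE_comp_appLE_assoc,
    Groth.Ega2Proj.QAff.appLE_congr_hom (RelSpec.QCAlg.ι_specMap U hU φ) _
      (by
        rw [Scheme.Hom.comp_preimage]
        intro z _
        exact A.top_le_preimage U hU (x := _) trivial),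
    ← Scheme.Hom.appLE_comp_appLE (Spec.map (φ.hom.app (op U))) (A.ι U hU) (A.π ⁻¹ᵁ U) ⊤ ⊤
      (A.top_le_preimage U hU) le_top]
  rw [Category.assoc]
  refine congrArg ((A.ι U hU).appLE _ ⊤ _ ≫ ·) ?_
  exact ((Scheme.Hom.app_eq_appLE _).symm =≫ _).trans (Scheme.ΓSpecIso_naturality _)

/-- an immersion is a closed immersion over a small affine open -/
theorem affine_and_surjective (g : X ⟶ Y) [IsImmersion g] {D : Y.Opens} (hD : IsAffineOpen D)
    (hle : D ≤ g.coborderRange) :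
    IsAffineOpen (g ⁻¹ᵁ D) ∧ Function.Surjective (g.app D) := by
  obtain ⟨D', rfl⟩ : ∃ D', g.coborderRange.ι ''ᵁ D' = D := ⟨g.coborderRange.ι ⁻¹ᵁ D, by
    rw [Scheme.Hom.image_preimage_eq_opensRange_inf, Scheme.Opens.opensRange_ι, inf_eq_right.2 hle]⟩
  have hD' : IsAffineOpen D' := g.coborderRange.ι.isAffineOpen_iff_of_isOpenImmersion.1 hD
  refine ⟨g.liftCoborder_preimage D' ▸ hD'.preimage g.liftCoborder, ?_⟩
  have h := g.liftCoborder.app_surjective D' hD'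
  rw [AlgebraicGeometry.liftCoborder_app] at h
  intro z
  obtain ⟨w, hw⟩ := h (X.presheaf.map (eqToHom (g.liftCoborder_preimage D')).op z)
  exact ⟨w, (ConcreteCategory.bijective_of_isIso
    (X.presheaf.map (eqToHom (g.liftCoborder_preimage D')).op)).1 hw⟩

variable (f : X ⟶ Y)

/-- the chart data at a point -/
theorem exists_chart [LocallyOfFiniteType f] (C : RelSpec.QCAlg Y) (g : X ⟶ C.spec) [IsImmersion g]
    (hg : g ≫ C.π = f) (x : X) :
    ∃ (U : Y.Opens) (_ : IsAffineOpen U) (h : Γ(C.spec, C.π ⁻¹ᵁ U)) (T : Finset Γ(C.spec, C.π ⁻¹ᵁ U)),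
      g x ∈ C.spec.basicOpen h ∧ IsAffineOpen (g ⁻¹ᵁ C.spec.basicOpen h) ∧
      ∃ e : g ⁻¹ᵁ C.spec.basicOpen h ≤ f ⁻¹ᵁ U,
        Subring.closure (Set.range (f.appLE U (g ⁻¹ᵁ C.spec.basicOpen h) e) ∪
          {c | ∃ a ∈ T, ∃ n : ℕ, c * (g.app (C.spec.basicOpen h)
              (C.spec.presheaf.map (homOfLE (C.spec.basicOpen_le h)).op h)) ^ n =
            g.app (C.spec.basicOpen h) (C.spec.presheaf.map (homOfLE (C.spec.basicOpen_le h)).op a)}) = ⊤ := by
  classical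
  obtain ⟨_, ⟨U, hU, rfl⟩, hxU, -⟩ :=
    Y.isBasis_affineOpens.exists_subset_of_mem_open (Set.mem_univ (f x)) isOpen_univ
  have hVa : IsAffineOpen (C.π ⁻¹ᵁ U) := hU.preimage C.π
  have hgx : g x ∈ C.π ⁻¹ᵁ U := by
    change (g ≫ C.π) x ∈ U
    rw [hg]
    exact hxU
  have hgr : g x ∈ g.coborderRange := subset_coborder ⟨x, rfl⟩
  obtain ⟨h, hle, hxh⟩ := hVa.exists_basicOpen_le (V := g.coborderRange) ⟨g x, hgr⟩ hgx
  obtain ⟨hWa, hsurj⟩ := affine_and_surjective g (hVa.basicOpen h) hle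
  have e : g ⁻¹ᵁ C.spec.basicOpen h ≤ f ⁻¹ᵁ U := by
    rw [← hg, Scheme.Hom.comp_preimage]
    exact g.preimage_mono (C.spec.basicOpen_le h)
  have hft := HasRingHomProperty.appLE @LocallyOfFiniteType f inferInstance ⟨U, hU⟩ ⟨_, hWa⟩ e
  let _alg := (f.appLE U (g ⁻¹ᵁ C.spec.basicOpen h) e).hom.toAlgebra
  obtain ⟨G, hG⟩ := (hft : Algebra.FiniteType Γ(Y, U) Γ(X, g ⁻¹ᵁ C.spec.basicOpen h)).out
  let _alg2 : Algebra Γ(C.spec, C.π ⁻¹ᵁ U) Γ(C.spec, C.spec.basicOpen h) :=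
    (C.spec.presheaf.map (homOfLE (C.spec.basicOpen_le h)).op).hom.toAlgebra
  have : IsLocalization.Away h Γ(C.spec, C.spec.basicOpen h) := hVa.isLocalization_basicOpen h
  choose w hw using fun c => hsurj c
  choose n a ha using fun c : Γ(C.spec, C.spec.basicOpen h) => IsLocalization.Away.surj h c
  refine ⟨U, hU, h, G.image (fun c => a (w c)), hxh, hWa, e, top_le_iff.1 fun c _ => ?_⟩
  have hc : c ∈ Algebra.adjoin Γ(Y, U) (↑G : Set Γ(X, g ⁻¹ᵁ C.spec.basicOpen h)) := hG.symm ▸ Algebra.mem_top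
  replace hc : c ∈ Subring.closure (Set.range (f.appLE U (g ⁻¹ᵁ C.spec.basicOpen h) e) ∪
      (↑G : Set Γ(X, g ⁻¹ᵁ C.spec.basicOpen h))) := (Algebra.mem_adjoin_iff).1 hc
  refine Subring.closure_mono (Set.union_subset_union le_rfl fun z hz => ?_) hc
  refine ⟨a (w z), Finset.mem_image_of_mem (fun c => a (w c)) hz, n (w z), ?_⟩
  have := congrArg (g.app (C.spec.basicOpen h)).hom (ha (w z))
  rw [map_mul, map_pow, hw] at this
  exact this

/-- an immersion into a relative spectrum is one into the spectrum of a subalgebra of finite type -/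
theorem exists_subalgebra [CompactSpace Y] [QuasiSeparatedSpace Y] [LocallyOfFiniteType f] [QuasiCompact f]
    (C : RelSpec.QCAlg Y) (g : X ⟶ C.spec) [IsImmersion g] (hg : g ≫ C.π = f) :
    ∃ (C' : RelSpec.QCAlg Y) (φ : C' ⟶ C),
      (∀ U : Y.Opens, Function.Injective (φ.hom.app (op U))) ∧
      (∀ U : Y.affineOpens, (C'.str.app (op (U : Y.Opens))).hom.FiniteType) ∧
      IsImmersion (g ≫ RelSpec.QCAlg.specMap φ) := by
  classical
  have : CompactSpace X := QuasiCompact.compactSpace_of_compactSpace f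
  choose U hU h T hxh hWa e hgen using exists_chart f C g hg
  obtain ⟨t, ht⟩ := isCompact_univ.elim_finite_subcover
    (fun x : X => (g ⁻¹ᵁ C.spec.basicOpen (h x) : Set X))
    (fun x => (g ⁻¹ᵁ C.spec.basicOpen (h x)).2) (fun x _ => Set.mem_iUnion.2 ⟨x, hxh x⟩)
  obtain ⟨C', φ, hinj, hft, hTr⟩ := exists_ft_subalgebra C (fun i : t => U i.1) (fun i => hU i.1)
    (fun i => (C.gammaAff (U i.1) (hU i.1)).hom '' (↑(insert (h i.1) (T i.1)) : Set _))
    fun i => (Finset.finite_toSet _).image _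
  refine ⟨C', φ, hinj, fun W => hft W.1 W.2, ?_⟩
  let s := RelSpec.QCAlg.specMap φ
  have hpre : ∀ V : Y.Opens, s ⁻¹ᵁ (C'.π ⁻¹ᵁ V) = C.π ⁻¹ᵁ V := fun V => by
    rw [← Scheme.Hom.comp_preimage, RelSpec.QCAlg.specMap_π φ]
  have hb : ∀ (i : t), ∀ a ∈ insert (h i.1) (T i.1), ∃ b : Γ(C'.spec, C'.π ⁻¹ᵁ U i.1),
      s.appLE (C'.π ⁻¹ᵁ U i.1) (C.π ⁻¹ᵁ U i.1) (hpre _).ge b = a := by
    intro i a ha
    obtain ⟨c, hc⟩ := hTr i ⟨a, ha, rfl⟩
    have := isIso_gammaAff C' (U i.1) (hU i.1)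
    obtain ⟨b, rfl⟩ := (ConcreteCategory.bijective_of_isIso (C'.gammaAff (U i.1) (hU i.1))).2 c
    have := isIso_gammaAff C (U i.1) (hU i.1)
    refine ⟨b, (ConcreteCategory.bijective_of_isIso (C.gammaAff (U i.1) (hU i.1))).1 ?_⟩
    refine Eq.trans ?_ hc
    exact congr(($(specMap_appLE φ (U i.1) (hU i.1) (hpre _).ge)).hom b)
  choose b hb using hb
  let h' : ∀ i : t, Γ(C'.spec, C'.π ⁻¹ᵁ U i.1) := fun i => b i (h i.1) (Finset.mem_insert_self _ _)
  have hR : ∀ i : t, s ⁻¹ᵁ C'.spec.basicOpen (h' i) = C.spec.basicOpen (h i.1) := by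
    intro i
    have e : C.spec.basicOpen (h i.1) = C.spec.basicOpen
        (s.appLE (C'.π ⁻¹ᵁ U i.1) (C.π ⁻¹ᵁ U i.1) (hpre _).ge (h' i)) := by rw [hb]
    rw [e, Scheme.Hom.appLE, CommRingCat.comp_apply, Scheme.basicOpen_res, ← Scheme.preimage_basicOpen]
    exact (inf_eq_right.2 ((s.preimage_mono (C'.spec.basicOpen_le _)).trans (hpre _).le)).symm
  refine Groth.Chow.isImmersion_of_pieces (g ≫ s) (fun i : t => C'.spec.basicOpen (h' i)) (fun x => ?_) fun i => ?_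
  · obtain ⟨y, hy, hxy⟩ := Set.mem_iUnion₂.1 (ht (Set.mem_univ x))
    exact ⟨⟨y, hy⟩, (hR ⟨y, hy⟩).ge hxy⟩
  have hpre' : (g ≫ s) ⁻¹ᵁ C'.spec.basicOpen (h' i) = g ⁻¹ᵁ C.spec.basicOpen (h i.1) := by
    rw [Scheme.Hom.comp_preimage, hR]
  refine Groth.Ega2Proj.QEmb.isClosedImmersion_restrict (g ≫ s) (((hU i.1).preimage C'.π).basicOpen _)
    (hWa i.1) hpre' ?_
  let R := C'.spec.basicOpen (h' i)
  let D := C.spec.basicOpen (h i.1)
  let ρ := ((g ≫ s).appLE R (g ⁻¹ᵁ D) hpre'.ge).hom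
  let resR := (C'.spec.presheaf.map (homOfLE (C'.spec.basicOpen_le (h' i))).op).hom
  have hres : ∀ a (ha : a ∈ insert (h i.1) (T i.1)), ρ (resR (b i a ha)) =
      g.app D (C.spec.presheaf.map (homOfLE (C.spec.basicOpen_le (h i.1))).op a) := by
    intro a ha
    refine Eq.trans ?_ (congrArg (fun z => g.app D (C.spec.presheaf.map
      (homOfLE (C.spec.basicOpen_le (h i.1))).op z)) (hb i a ha))
    have e1 : C'.spec.presheaf.map (homOfLE (C'.spec.basicOpen_le (h' i))).op ≫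
          (g ≫ s).appLE R (g ⁻¹ᵁ D) hpre'.ge =
        s.appLE (C'.π ⁻¹ᵁ U i.1) (C.π ⁻¹ᵁ U i.1) (hpre _).ge ≫
          C.spec.presheaf.map (homOfLE (C.spec.basicOpen_le (h i.1))).op ≫ g.app D := by
      rw [Scheme.Hom.map_appLE, Scheme.Hom.appLE_map_assoc, Scheme.Hom.app_eq_appLE,
        Scheme.Hom.appLE_comp_appLE]
    exact congr(($e1).hom (b i a ha))
  suffices h : ρ.range = ⊤ from RingHom.range_eq_top.1 h
  refine top_le_iff.1 ((hgen i.1).ge.trans (Subring.closure_le.2 ?_))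
  rintro z (⟨r, rfl⟩ | ⟨a, ha, n, eq⟩)
  · refine ⟨C'.π.appLE (U i.1) R (C'.spec.basicOpen_le _) r, ?_⟩
    change (C'.π.appLE (U i.1) R _ ≫ (g ≫ s).appLE R _ _).hom r = _
    rw [Scheme.Hom.appLE_comp_appLE]
    congr 2
    exact Groth.Ega2Proj.QAff.appLE_congr_hom
      (by rw [Category.assoc, RelSpec.QCAlg.specMap_π φ, hg]) _ _
  · have ha' := Finset.mem_insert_of_mem (b := h i.1) ha
    obtain ⟨u, hu⟩ : IsUnit (resR (h' i)) := RingedSpace.isUnit_res_basicOpen _ _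
    refine ⟨resR (b i a ha') * (↑u⁻¹ : Γ(C'.spec, R)) ^ n, ?_⟩
    rw [map_mul, map_pow, hres, ← eq, ← hres _ (Finset.mem_insert_self _ _)]
    change z * ρ (resR (h' i)) ^ n * ρ (↑u⁻¹) ^ n = z
    rw [← hu, mul_assoc, ← mul_pow, ← map_mul, Units.mul_inv, map_one, one_pow, mul_one]

end Groth.SubAlgImm
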